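import Mathlib
import Cfsg.Agent.H897.X3.Base

/-!
# Elements of order `5` of `W(E₈)` commuting with a square root of `-1` (S2187, M10)

* `phi5` : they have no fixed points;
* `five_eq_zero` : a non-cyclic group of order `25` has elements with fixed points;
* `no_two` : at most one character of order `5` (up to powers) is fixed by `w` and multiplied by `c` by `g`, `c² = -1`.
-/

set_option autoImplicit false
set_option maxHeartbeats 400000
set_option linter.unusedSectionVars false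

namespace Cfsg.Agent.H897.Mono

open Polynomial

/-! ### no fixed points -/

theorem cyc20 : cyclotomic 20 ℚ * cyclotomic 4 ℚ = X ^ 10 + 1 ∧ cyclotomic 4 ℚ = X ^ 2 + 1 := by
  have h2 : cyclotomic 4 ℚ = X ^ 2 + 1 := by
    have := cyclotomic_expand_eq_cyclotomic (p := 2) (n := 2) Nat.prime_two (dvd_refl 2) ℚ
    rw [cyclotomic_two] at this
    have h4 : (2 * 2 : ℕ) = 4 := rfl
    rw [h4] at this
    rw [← this]
    simp
  refine ⟨?_, h2⟩
  have := cyclotomic_expand_eq_cyclotomic_mul (p := 5) (n := 4) (by norm_num) (by norm_num) ℚ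
  have h4 : (4 * 5 : ℕ) = 20 := rfl
  rw [h4] at this
  rw [← this, h2]
  simp
  ring

theorem phi5 {g w : Matrix (Fin 8) (Fin 8) ℚ} (hg : g * g = -1) (hw : w ^ 5 = 1) (hc : g * w = w * g) (hne : w ≠ 1) :
    1 + w + w ^ 2 + w ^ 3 + w ^ 4 = 0 := by
  set u := g * w with hu
  have hu2 : u ^ 2 = -w ^ 2 := by
    rw [hu, (show Commute g w from hc).mul_pow, pow_two g, hg, neg_mul, one_mul]
  have hu10 : u ^ 10 = -1 := by
    have : u ^ 10 = (u ^ 2) ^ 5 := by rw [← pow_mul]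
    rw [this, hu2, neg_pow, ← pow_mul, mul_comm 2 5, pow_mul, hw, one_pow]
    norm_num
  obtain ⟨e1, e2⟩ := cyc20
  have hirr : Irreducible (cyclotomic 20 ℚ) := cyclotomic.irreducible_rat (by norm_num)
  have hd : minpoly ℚ u ∣ cyclotomic 20 ℚ * cyclotomic 4 ℚ := by
    apply minpoly.dvd
    rw [e1]
    simp [hu10]
  have hint : IsIntegral ℚ u := Algebra.IsIntegral.isIntegral u
  have hdeg : (minpoly ℚ u).natDegree ≤ 8 := by
    have h1 := Matrix.minpoly_dvd_charpoly u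
    have h2 := natDegree_le_of_dvd h1 (Matrix.charpoly_monic u).ne_zero
    rwa [Matrix.charpoly_natDegree_eq_dim, Fintype.card_fin] at h2
  rcases em (cyclotomic 20 ℚ ∣ minpoly ℚ u) with h | h
  swap
  · have h3 : minpoly ℚ u ∣ cyclotomic 4 ℚ := ((hirr.coprime_iff_not_dvd).2 h).symm.dvd_of_dvd_mul_left hd
    exfalso
    apply hne
    have h4 : aeval u (cyclotomic 4 ℚ) = 0 := by
      obtain ⟨c, hc⟩ := h3
      rw [hc, map_mul, minpoly.aeval, zero_mul]
    rw [e2] at h4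
    simp only [map_add, map_pow, aeval_X, map_one] at h4
    rw [hu2] at h4
    have h5 : w ^ 2 = 1 := by
      have := eq_neg_of_add_eq_zero_left h4
      exact neg_injective this
    calc w = w ^ 5 * (w ^ 2)⁻¹ * (w ^ 2)⁻¹ := by
          rw [h5]
          have : w ^ 5 = w ^ 2 * w ^ 2 * w := by noncomm_ring
          rw [this, h5]
          simp
      _ = 1 := by rw [hw, h5]; simp
  · have h20 : (cyclotomic 20 ℚ).natDegree = 8 := by
      rw [natDegree_cyclotomic]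
      decide
    have h6 : minpoly ℚ u = cyclotomic 20 ℚ :=
      eq_of_monic_of_dvd_of_natDegree_le (cyclotomic.monic 20 ℚ) (minpoly.monic hint) h (by rw [h20]; exact hdeg)
    have h7 : aeval u (cyclotomic 20 ℚ) = 0 := by rw [← h6, minpoly.aeval]
    have h8 : cyclotomic 20 ℚ = X ^ 8 - X ^ 6 + X ^ 4 - X ^ 2 + 1 := by
      have h9 : (X ^ 2 + 1 : ℚ[X]) ≠ 0 := by
        rw [← e2]; exact cyclotomic_ne_zero 4 ℚ
      apply mul_right_cancel₀ h9
      rw [← e2, e1, e2]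
      ring
    rw [h8] at h7
    simp only [map_add, map_sub, map_pow, aeval_X, map_one] at h7
    have k4 : u ^ 4 = w ^ 4 := by
      have : u ^ 4 = (u ^ 2) ^ 2 := by rw [← pow_mul]
      rw [this, hu2, neg_sq, ← pow_mul]
    have k6 : u ^ 6 = -w := by
      have : u ^ 6 = u ^ 2 * u ^ 4 := by rw [← pow_add]
      rw [this, hu2, k4, neg_mul, ← pow_add, pow_succ, hw, one_mul]
    have k8 : u ^ 8 = w ^ 3 := by
      have : u ^ 8 = u ^ 4 * u ^ 4 := by rw [← pow_add]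
      rw [this, k4, ← pow_add]
      have : w ^ (4 + 4) = w ^ 5 * w ^ 3 := by rw [← pow_add]
      rw [this, hw, one_mul]
    rw [k8, k6, k4, hu2] at h7
    rw [← h7]
    abel

/-- the matrix over `ℚ` -/
noncomputable def rho : Module.End ℤ (Fin 8 → ℤ) →+* Matrix (Fin 8) (Fin 8) ℚ :=
  ((Int.castRingHom ℚ).mapMatrix).comp (LinearMap.toMatrixAlgEquiv' : Module.End ℤ (Fin 8 → ℤ) ≃ₐ[ℤ] _).toRingEquiv.toRingHom

theorem rho_inj : Function.Injective rho := by
  intro a b hab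
  have h1 : (Int.castRingHom ℚ).mapMatrix (LinearMap.toMatrixAlgEquiv' a) =
      (Int.castRingHom ℚ).mapMatrix (LinearMap.toMatrixAlgEquiv' b) := hab
  have h2 := Matrix.map_injective (f := (Int.castRingHom ℚ)) (fun x y h => by simpa using h) h1
  exact LinearMap.toMatrixAlgEquiv'.injective h2

theorem phi5_end {g w : Module.End ℤ (Fin 8 → ℤ)} (hg : g * g = -1) (hw : w ^ 5 = 1) (hc : g * w = w * g)
    (hne : w ≠ 1) : 1 + w + w ^ 2 + w ^ 3 + w ^ 4 = 0 := by
  apply rho_inj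
  have := phi5 (g := rho g) (w := rho w) (by rw [← map_mul, hg, map_neg, map_one]) (by rw [← map_pow, hw, map_one])
    (by rw [← map_mul, hc, map_mul]) (fun h => hne (rho_inj (by rw [h, map_one])))
  rw [map_zero, ← this]
  simp only [map_add, map_one, map_pow]

/-! ### cyclic -/

theorem five_eq_zero {R : Type*} [Ring R] {a b : R} (hb : b ^ 5 = 1) (hc : a * b = b * a)
    (Pb : 1 + b + b ^ 2 + b ^ 3 + b ^ 4 = 0)
    (Pa : ∀ j : ℕ, 1 + (a * b ^ j) + (a * b ^ j) ^ 2 + (a * b ^ j) ^ 3 + (a * b ^ j) ^ 4 = 0) : (5 : R) = 0 := by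
  have hcc : ∀ j : ℕ, Commute a (b ^ j) := fun j => (show Commute a b from hc).pow_right j
  have P0 := Pa 0
  have P1 := Pa 1
  have P2 := Pa 2
  have P3 := Pa 3
  have P4 := Pa 4
  simp only [(hcc _).mul_pow, ← pow_mul] at P0 P1 P2 P3 P4
  have b6 : b ^ 6 = b := by rw [pow_succ, hb, one_mul]
  have b8 : b ^ 8 = b ^ 3 := by
    have : b ^ 8 = b ^ 5 * b ^ 3 := by rw [← pow_add]
    rw [this, hb, one_mul]
  have b9 : b ^ 9 = b ^ 4 := by
    have : b ^ 9 = b ^ 5 * b ^ 4 := by rw [← pow_add]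
    rw [this, hb, one_mul]
  have b12 : b ^ 12 = b ^ 2 := by
    have : b ^ 12 = b ^ 5 * (b ^ 5 * b ^ 2) := by rw [← pow_add, ← pow_add]
    rw [this, hb, one_mul, one_mul]
  have b16 : b ^ 16 = b := by
    have : b ^ 16 = b ^ 5 * (b ^ 5 * b ^ 6) := by rw [← pow_add, ← pow_add]
    rw [this, hb, one_mul, one_mul, b6]
  norm_num [b6, b8, b9, b12, b16] at P0 P1 P2 P3 P4
  calc (5 : R) = (1 + a + a ^ 2 + a ^ 3 + a ^ 4) + (1 + a * b + a ^ 2 * b ^ 2 + a ^ 3 * b ^ 3 + a ^ 4 * b ^ 4)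
        + (1 + a * b ^ 2 + a ^ 2 * b ^ 4 + a ^ 3 * b + a ^ 4 * b ^ 3)
        + (1 + a * b ^ 3 + a ^ 2 * b + a ^ 3 * b ^ 4 + a ^ 4 * b ^ 2)
        + (1 + a * b ^ 4 + a ^ 2 * b ^ 3 + a ^ 3 * b ^ 2 + a ^ 4 * b)
        - (a + a ^ 2 + a ^ 3 + a ^ 4) * (1 + b + b ^ 2 + b ^ 3 + b ^ 4) := by
          noncomm_ring
          simp
    _ = 0 := by
      rw [P0, P1, P2, P3, P4, Pb]
      simp

/-! ### the index of `(w - 1) L` -/

/-- reduction modulo `5` -/
def red : (Fin 8 → ℤ) →+ (Fin 8 → ZMod 5) where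
  toFun x i := (x i : ZMod 5)
  map_zero' := by funext i; simp
  map_add' x y := by funext i; simp

theorem red_surj : Function.Surjective red := by
  intro y
  refine ⟨fun i => ((y i).val : ℤ), ?_⟩
  funext i
  show (((y i).val : ℤ) : ZMod 5) = y i
  rw [Int.cast_natCast, ZMod.natCast_zmod_val]

theorem mem_ker_red {x : Fin 8 → ℤ} : x ∈ red.ker ↔ ∀ i, (5 : ℤ) ∣ x i := by
  rw [AddMonoidHom.mem_ker]
  constructor
  · intro h i
    have h1 := congrFun h i
    exact (ZMod.intCast_zmod_eq_zero_iff_dvd _ 5).1 h1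
  · intro h
    funext i
    exact (ZMod.intCast_zmod_eq_zero_iff_dvd _ 5).2 (h i)

theorem index_red : red.ker.index = 5 ^ 8 := by
  rw [AddSubgroup.index_ker, AddMonoidHom.range_eq_top.2 red_surj]
  simp

section Idx

variable {w : (Fin 8 → ℤ) →+ (Fin 8 → ℤ)} (h5 : ∀ x, w (w (w (w (w x)))) = x)
  (hS : ∀ x, x + w x + w (w x) + w (w (w x)) + w (w (w (w x))) = 0)

/-- `w - 1` -/
def phi (w : (Fin 8 → ℤ) →+ (Fin 8 → ℤ)) : (Fin 8 → ℤ) →+ (Fin 8 → ℤ) := w - AddMonoidHom.id _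

theorem phi_apply (w : (Fin 8 → ℤ) →+ (Fin 8 → ℤ)) (x : Fin 8 → ℤ) : phi w x = w x - x := rfl

include hS in
theorem four (x : Fin 8 → ℤ) : phi w (phi w (phi w (phi w x))) = (5 : ℤ) • (w (w x) - w (w (w x)) - w x) := by
  have h1 := hS x
  simp only [phi_apply, map_sub]
  linear_combination (exp := 1) h1

include h5 hS in
theorem four' (z : Fin 8 → ℤ) :
    phi w (phi w (phi w (phi w (w (w z) + 2 • w (w (w z)) + w (w (w (w z))))))) = (5 : ℤ) • z := by
  have h1 := hS z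
  have h2 := h5 z
  simp only [phi_apply, map_sub, map_add, map_nsmul, h2]
  linear_combination (exp := 1) -h1

include hS in
theorem phi_inj (_h5 : ∀ x, w (w (w (w (w x)))) = x) : Function.Injective (phi w) := by
  rw [injective_iff_map_eq_zero]
  intro x hx
  rw [phi_apply, sub_eq_zero] at hx
  have h1 := hS x
  rw [hx, hx, hx, hx] at h1
  have h2 : (5 : ℤ) • x = 0 := by rw [← h1]; module
  exact (smul_eq_zero.1 h2).resolve_left (by norm_num)

include h5 hS in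
theorem map_four : ((((⊤ : AddSubgroup (Fin 8 → ℤ)).map (phi w)).map (phi w)).map (phi w)).map (phi w) = red.ker := by
  ext y
  constructor
  · rintro ⟨_, ⟨_, ⟨_, ⟨x, -, rfl⟩, rfl⟩, rfl⟩, rfl⟩
    rw [four hS, mem_ker_red]
    intro i
    exact ⟨_, rfl⟩
  · intro hy
    rw [mem_ker_red] at hy
    choose z hz using hy
    have h1 : y = (5 : ℤ) • z := funext hz
    refine ⟨_, ⟨_, ⟨_, ⟨_, AddSubgroup.mem_top (w (w z) + 2 • w (w (w z)) + w (w (w (w z)))), rfl⟩, rfl⟩, rfl⟩, ?_⟩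
    rw [four' h5 hS, h1]

include h5 hS in
theorem index_phi : ((⊤ : AddSubgroup (Fin 8 → ℤ)).map (phi w)).index = 25 := by
  have hi := phi_inj hS h5
  have e : ∀ H : AddSubgroup (Fin 8 → ℤ), (H.map (phi w)).index = H.index * ((⊤ : AddSubgroup (Fin 8 → ℤ)).map (phi w)).index := by
    intro H
    rw [AddSubgroup.index_map_of_injective _ hi, AddMonoidHom.range_eq_map]
  have h1 := congrArg AddSubgroup.index (map_four h5 hS)
  rw [index_red, e, e, e] at h1
  set n := ((⊤ : AddSubgroup (Fin 8 → ℤ)).map (phi w)).index with hn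
  have h2 : n ^ 4 = 25 ^ 4 := by
    calc n ^ 4 = n * n * n * n := by ring
      _ = 5 ^ 8 := h1
      _ = 25 ^ 4 := by norm_num
  exact Nat.pow_left_injective (by norm_num : (4 : ℕ) ≠ 0) h2

end Idx

/-! ### characters -/

section Char

open Cfsg.Agent.H897.X3 (b8)

variable {w : (Fin 8 → ℤ) →+ (Fin 8 → ℤ)} (h5 : ∀ x, w (w (w (w (w x)))) = x)
  (hS : ∀ x, x + w x + w (w x) + w (w (w x)) + w (w (w (w x))) = 0)

variable {C : Type*} [AddCommGroup C]

/-- the common kernel of two independent characters fixed by `w` -/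
theorem ker_le (h5 : ∀ x, w (w (w (w (w x)))) = x)
    (hS : ∀ x, x + w x + w (w x) + w (w (w x)) + w (w (w (w x))) = 0) {χ₁ χ₂ : (Fin 8 → ℤ) →+ C}
    (c1 : ∀ x, (5 : ℕ) • χ₁ x = 0) (c2 : ∀ x, (5 : ℕ) • χ₂ x = 0)
    (w1 : ∀ x, χ₁ (w x) = χ₁ x) (w2 : ∀ x, χ₂ (w x) = χ₂ x) {x₁ x₂ : Fin 8 → ℤ}
    (h11 : χ₁ x₁ ≠ 0) (h21 : χ₂ x₁ = 0) (h22 : χ₂ x₂ ≠ 0) {y : Fin 8 → ℤ} (y1 : χ₁ y = 0) (y2 : χ₂ y = 0) :
    ∃ u, phi w u = y := by
  set f : (Fin 8 → ℤ) →+ C × C := χ₁.prod χ₂ with hf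
  have hle : (⊤ : AddSubgroup (Fin 8 → ℤ)).map (phi w) ≤ f.ker := by
    rintro _ ⟨u, -, rfl⟩
    rw [AddMonoidHom.mem_ker, hf, AddMonoidHom.prod_apply, phi_apply, map_sub, map_sub, w1, w2, sub_self, sub_self]
    rfl
  have hidx := index_phi h5 hS
  have hf5 : Fact (Nat.Prime 5) := ⟨by norm_num⟩
  have o1 : addOrderOf (χ₁ x₁) = 5 := addOrderOf_eq_prime (c1 x₁) h11
  have o2 : addOrderOf (χ₂ x₂) = 5 := addOrderOf_eq_prime (c2 x₂) h22
  have hdvd : f.ker.index ∣ 25 := by rw [← hidx]; exact AddSubgroup.index_dvd_of_le hle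
  have hfin : Finite f.range := by
    have h0 : f.ker.index ≠ 0 := fun h0 => by rw [h0] at hdvd; exact absurd hdvd (by norm_num)
    rw [AddSubgroup.index_ker] at h0
    exact Nat.finite_of_card_ne_zero h0
  have hge : 25 ≤ f.ker.index := by
    rw [AddSubgroup.index_ker]
    have hinj : Function.Injective (fun ij : Fin 5 × Fin 5 =>
        (⟨f ((ij.1 : ℕ) • x₁ + (ij.2 : ℕ) • x₂), ⟨_, rfl⟩⟩ : f.range)) := by
      rintro ⟨i, j⟩ ⟨i', j'⟩ h
      have h' : f ((i : ℕ) • x₁ + (j : ℕ) • x₂) = f ((i' : ℕ) • x₁ + (j' : ℕ) • x₂) := congrArg Subtype.val h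
      rw [hf, AddMonoidHom.prod_apply, AddMonoidHom.prod_apply] at h'
      have k2 := congrArg Prod.snd h'
      have k1 := congrArg Prod.fst h'
      simp only [map_add, map_nsmul, h21, smul_zero, zero_add] at k1 k2
      have hj : j = j' := by
        have := (nsmul_inj_mod).1 k2
        rw [o2, Nat.mod_eq_of_lt j.2, Nat.mod_eq_of_lt j'.2] at this
        exact Fin.ext this
      subst hj
      have k3 := add_right_cancel k1
      have hi : i = i' := by
        have := (nsmul_inj_mod).1 k3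
        rw [o1, Nat.mod_eq_of_lt i.2, Nat.mod_eq_of_lt i'.2] at this
        exact Fin.ext this
      rw [hi]
    have := Nat.card_le_card_of_injective _ hinj
    simpa using this
  have heq : f.ker.index = 25 := le_antisymm (Nat.le_of_dvd (by norm_num) hdvd) hge
  have hr := AddSubgroup.relIndex_mul_index hle
  rw [hidx, heq] at hr
  have hr1 : ((⊤ : AddSubgroup (Fin 8 → ℤ)).map (phi w)).relIndex f.ker = 1 := by omega
  have hge' : f.ker ≤ (⊤ : AddSubgroup (Fin 8 → ℤ)).map (phi w) := AddSubgroup.relIndex_eq_one.1 hr1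
  obtain ⟨u, -, hu⟩ := hge' (show y ∈ f.ker by
    rw [AddMonoidHom.mem_ker, hf, AddMonoidHom.prod_apply, y1, y2]; rfl)
  exact ⟨u, hu⟩

/-- the inverse of the Cartan matrix -/
def C8 : Fin 8 → Fin 8 → ℤ := ![![4, 5, 7, 10, 8, 6, 4, 2], ![5, 8, 10, 15, 12, 9, 6, 3],
  ![7, 10, 14, 20, 16, 12, 8, 4], ![10, 15, 20, 30, 24, 18, 12, 6], ![8, 12, 16, 24, 20, 15, 10, 5],
  ![6, 9, 12, 18, 15, 12, 8, 4], ![4, 6, 8, 12, 10, 8, 6, 3], ![2, 3, 4, 6, 5, 4, 3, 2]]

theorem C8_mul : ∀ i k, ∑ j, X3.A8 k j * C8 j i = if k = i then 1 else 0 := by decide +kernel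

/-- the lattice is unimodular -/
theorem dvd_of_b8 {v : Fin 8 → ℤ} {n : ℤ} (h : ∀ y, n ∣ b8 v y) (i : Fin 8) : n ∣ v i := by
  have h1 : b8 v (fun j => C8 j i) = v i := by
    rw [b8]
    have : ∀ k, ∑ j, v k * X3.A8 k j * C8 j i = v k * (if k = i then 1 else 0) := by
      intro k
      rw [← C8_mul i k, Finset.mul_sum]
      exact Finset.sum_congr rfl fun j _ => by ring
    rw [Finset.sum_congr rfl fun k _ => this k]
    simp
  rw [← h1]
  exact h _

theorem b8_add_left (x y z : Fin 8 → ℤ) : b8 (x + y) z = b8 x z + b8 y z := X3.b8_add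

theorem b8_symm (x y : Fin 8 → ℤ) : b8 x y = b8 y x := by
  have hA : ∀ i j, X3.A8 i j = X3.A8 j i := by decide
  rw [b8, b8, Finset.sum_comm]
  refine Finset.sum_congr rfl fun i _ => Finset.sum_congr rfl fun j _ => ?_
  rw [hA]; ring

theorem b8_add_right (x y z : Fin 8 → ℤ) : b8 x (y + z) = b8 x y + b8 x z := by
  rw [b8_symm, b8_add_left, b8_symm y, b8_symm z]

theorem b8_smul_left (n : ℤ) (x y : Fin 8 → ℤ) : b8 (n • x) y = n * b8 x y := by
  rw [← X3.bf_eq, ← X3.bf_eq, map_smul, LinearMap.smul_apply, smul_eq_mul]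

theorem b8_smul_right (n : ℤ) (x y : Fin 8 → ℤ) : b8 x (n • y) = n * b8 x y := by
  rw [b8_symm, b8_smul_left, b8_symm]

theorem b8_sub_left (x y z : Fin 8 → ℤ) : b8 (x - y) z = b8 x z - b8 y z := X3.b8_sub

theorem b8_sub_right (x y z : Fin 8 → ℤ) : b8 x (y - z) = b8 x y - b8 x z := by
  rw [b8_symm, b8_sub_left, b8_symm y, b8_symm z]

/-- **At most one character.** -/
theorem no_two {g : (Fin 8 → ℤ) →+ (Fin 8 → ℤ)} (h5 : ∀ x, w (w (w (w (w x)))) = x)
    (hS : ∀ x, x + w x + w (w x) + w (w (w x)) + w (w (w (w x))) = 0)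
    (gi : ∀ x y, b8 (g x) (g y) = b8 x y) (wi : ∀ x y, b8 (w x) (w y) = b8 x y) (hc : ∀ x, g (w x) = w (g x))
    {c : ℤ} (hc5 : (5 : ℤ) ∣ c ^ 2 + 1) {χ₁ χ₂ : (Fin 8 → ℤ) →+ C}
    (c1 : ∀ x, (5 : ℕ) • χ₁ x = 0) (c2 : ∀ x, (5 : ℕ) • χ₂ x = 0)
    (w1 : ∀ x, χ₁ (w x) = χ₁ x) (w2 : ∀ x, χ₂ (w x) = χ₂ x)
    (g1 : ∀ x, χ₁ (g x) = c • χ₁ x) (g2 : ∀ x, χ₂ (g x) = c • χ₂ x) {x₁ x₂ : Fin 8 → ℤ}
    (h11 : χ₁ x₁ ≠ 0) (h21 : χ₂ x₁ = 0) (h22 : χ₂ x₂ ≠ 0) : False := by
  have key : ∀ y, ∃ u, phi w u = g y - c • y := fun y =>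
    ker_le h5 hS c1 c2 w1 w2 h11 h21 h22 (by rw [map_sub, map_zsmul, g1, sub_self])
      (by rw [map_sub, map_zsmul, g2, sub_self])
  have h4 : ∀ x y, (5 : ℤ) ∣ b8 (phi w (phi w (phi w (phi w x)))) y := fun x y => by
    rw [four hS, b8_smul_left]; exact Dvd.intro _ rfl
  have h3 : ∀ x v, (5 : ℤ) ∣ b8 (phi w (phi w (phi w x))) (phi w v) := fun x v => by
    have e : b8 (phi w (phi w (phi w x))) (phi w v) = -b8 (phi w (phi w (phi w (phi w x)))) (w v) := by
      rw [phi_apply w v, b8_sub_right, phi_apply w (phi w (phi w (phi w x))), b8_sub_left, wi]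
      ring
    rw [e]
    exact (h4 _ _).neg_right
  have hgφ : ∀ x, g (phi w x) = phi w (g x) := fun x => by rw [phi_apply, phi_apply, map_sub, hc]
  have hz : ∀ x y, (5 : ℤ) ∣ b8 (phi w (phi w (phi w x))) y := fun x y => by
    obtain ⟨u, hu⟩ := key x
    obtain ⟨v, hv⟩ := key y
    have ex : g x = c • x + phi w u := by rw [hu]; abel
    have ey : g y = c • y + phi w v := by rw [hv]; abel
    have e : b8 (phi w (phi w (phi w x))) y = c * (c * b8 (phi w (phi w (phi w x))) y) +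
        c * b8 (phi w (phi w (phi w x))) (phi w v) + (c * b8 (phi w (phi w (phi w (phi w u)))) y +
          b8 (phi w (phi w (phi w (phi w u)))) (phi w v)) := by
      conv_lhs => rw [← gi, hgφ, hgφ, hgφ, ex, ey]
      simp only [map_add, map_zsmul, b8_add_left, b8_add_right, b8_smul_left, b8_smul_right]
      ring
    have k1 := h3 x v
    have k2 := h4 u y
    have k3 := h4 u (phi w v)
    set b := b8 (phi w (phi w (phi w x))) y with hb
    have k4 : (5 : ℤ) ∣ 2 * b := by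
      have : 2 * b = (c ^ 2 + 1) * b + c * b8 (phi w (phi w (phi w x))) (phi w v) +
          (c * b8 (phi w (phi w (phi w (phi w u)))) y + b8 (phi w (phi w (phi w (phi w u)))) (phi w v)) := by
        linear_combination e
      rw [this]
      exact dvd_add (dvd_add (hc5.mul_right _) (k1.mul_left _)) (dvd_add (k2.mul_left _) k3)
    omega
  have hle : ((((⊤ : AddSubgroup (Fin 8 → ℤ)).map (phi w)).map (phi w)).map (phi w)) ≤ red.ker := by
    rintro _ ⟨_, ⟨_, ⟨x, -, rfl⟩, rfl⟩, rfl⟩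
    exact mem_ker_red.2 (dvd_of_b8 (hz x))
  have hi := phi_inj hS h5
  have e : ∀ H : AddSubgroup (Fin 8 → ℤ), (H.map (phi w)).index = H.index * ((⊤ : AddSubgroup (Fin 8 → ℤ)).map (phi w)).index := by
    intro H
    rw [AddSubgroup.index_map_of_injective _ hi, AddMonoidHom.range_eq_map]
  have h6 := AddSubgroup.index_dvd_of_le hle
  rw [index_red, e, e, index_phi h5 hS] at h6
  exact absurd h6 (by norm_num)

end Char

end Cfsg.Agent.H897.Mono
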