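import Mathlib
import Cfsg.Agent.H897.Mono.Lat5
import Cfsg.Agent.H889.Mono.TorTwo
import Cfsg.Agent.H696.GmnToral

/-!
# `E₈`, `p = 5`, `5 ∣ q² + 1`: elementary abelian `5`-subgroups are toral (S2187, M10)

`toral_sq`
-/

set_option autoImplicit false
set_option linter.unusedSectionVars false
set_option maxHeartbeats 800000

namespace Cfsg.Agent.H897.Mono

open CoxeterSystem Cfsg Cfsg.Lie Cfsg.Lie.ChevalleyDatum
open Cfsg.Agent.ChevalleyStructure Cfsg.Agent.ChevalleyStructure.Elts Cfsg.Agent.ChevalleyStructure.CoxeterGeom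
  Cfsg.Agent.ChevalleyStructure.CoxeterGeomTypes Cfsg.Agent.ChevalleyStructure.NPerm
open Cfsg.Agent.Tits.Roots Cfsg.Agent.Tits.Core Cfsg.Agent.Nodes Cfsg.Agent.Nodes.Reps Cfsg.Agent.Nodes.BNOf
  Cfsg.Agent.Nodes.RGDChev Cfsg.Agent.Nodes.Bruhat
open Cfsg.Agent.KFacts.RgdField Cfsg.Agent.KFacts.RgdChevCoord Cfsg.Agent.BpExc.TorCent Cfsg.Agent.BpExc.TorChev
open Cfsg.Agent.GpExc.Field Cfsg.Agent.BpExc.Tow Cfsg.Agent.BpExc.TowChev Cfsg.Agent.BpExc Cfsg.Agent.BpExc.Fr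
  Cfsg.Agent.BpExc.LangFr
open Cfsg.Agent.H469.Exc Cfsg.Agent.H129.TorusChar Cfsg.Agent.H316.U6 Cfsg.Agent.H818.Mono
open Cfsg.Agent.H897.X3 (b8)

/-! ### representatives -/

section Rep

variable {D : ChevalleyDatum} {l : ℕ} {M : CoxeterMatrix (Fin l)} {hp : IsType D l M} {r : ℕ} [Fact r.Prime]

/-- the representatives act on the root subgroups -/
theorem nr_root {w : M.Group} {y : ↥(D.group (KK r))} (h : NR hp r w y) {a : Fin l → ℤ}
    (ha : IsRoot M.toCoxeterSystem hp.isCartan a) (u : ↥(D.group (KK r))) :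
    MulAut.conj y u ∈ XX D l (KK r) (rep M.toCoxeterSystem hp.isCartan w a) ↔ u ∈ XX D l (KK r) a := by
  have F := Fr.conj (tow (k := KK r) hp M.toCoxeterSystem (locFin r) r) h
  rw [TL_eq hp (locFin r), XL_eq hp (locFin r)] at F
  exact F.map a ha u

theorem nr_unique {w w' : M.Group} {y : ↥(D.group (KK r))} (h : NR hp r w y) (h' : NR hp r w' y) : w = w' := by
  have := finite_W hp M.toCoxeterSystem
  refine H696.GmnToral.rep_faithful hp M.toCoxeterSystem fun a ha => ?_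
  obtain ⟨u, hu, hu1⟩ := H696.GmnToral.XX_ne hp M.toCoxeterSystem (k := KK r) ha
  refine H696.GmnToral.XX_injective hp M.toCoxeterSystem (locFin r) r (ha.act w) (ha.act w')
    (u := MulAut.conj y u) ?_ ((nr_root h ha u).2 hu) ((nr_root h' ha u).2 hu)
  intro h3
  exact hu1 ((MulAut.conj y).injective (h3.trans (map_one _).symm))

/-- fixed representatives commute with the frame -/
theorem nr_comm {w : M.Group} {y : ↥(D.group (KK r))} (h : NR hp r w y) {τ : MulAut ↥(D.group (KK r))}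
    {γ : (Fin l → ℤ) ≃+ (Fin l → ℤ)} (F : Fr M.toCoxeterSystem hp.isCartan (TT D (KK r)) (XX D l (KK r)) τ γ)
    (hy : τ y = y) (x : Fin l → ℤ) :
    γ (rep M.toCoxeterSystem hp.isCartan w x) = rep M.toCoxeterSystem hp.isCartan w (γ x) := by
  have hroot : ∀ a, IsRoot M.toCoxeterSystem hp.isCartan a →
      γ (rep M.toCoxeterSystem hp.isCartan w a) = rep M.toCoxeterSystem hp.isCartan w (γ a) := by
    intro a ha
    obtain ⟨u, hu, hu1⟩ := H696.GmnToral.XX_ne hp M.toCoxeterSystem (k := KK r) ha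
    have hga := (F.root a).2 ha
    have h1 := (F.map _ (ha.act w) _).2 ((nr_root h ha u).2 hu)
    have h2 := (nr_root h hga (τ u)).2 ((F.map a ha u).2 hu)
    have h3 : τ (MulAut.conj y u) = MulAut.conj y (τ u) := by
      rw [MulAut.conj_apply, MulAut.conj_apply, map_mul, map_mul, map_inv, hy]
    rw [h3] at h1
    refine H696.GmnToral.XX_injective hp M.toCoxeterSystem (locFin r) r ((F.root _).2 (ha.act w)) (hga.act w)
      (u := MulAut.conj y (τ u)) ?_ h1 h2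
    intro h4
    apply hu1
    have h5 := (MulAut.conj y).injective (h4.trans (map_one _).symm)
    exact τ.injective (h5.trans (map_one _).symm)
  have e : (γ : (Fin l → ℤ) →+ (Fin l → ℤ)).toIntLinearMap.comp (rep M.toCoxeterSystem hp.isCartan w) =
      (rep M.toCoxeterSystem hp.isCartan w).comp (γ : (Fin l → ℤ) →+ (Fin l → ℤ)).toIntLinearMap := by
    refine LinearMap.pi_ext' fun i => LinearMap.ext_ring ?_
    have h1 := hroot (sr i) (isRoot_sr _ _ i)
    exact h1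
  exact LinearMap.congr_fun e x

theorem nr_pow {w : M.Group} {y : ↥(D.group (KK r))} (h : NR hp r w y) (n : ℕ) : NR hp r (w ^ n) (y ^ n) := by
  induction n with
  | zero => rw [pow_zero, pow_zero]; exact rp_one
  | succ n ih => rw [pow_succ, pow_succ]; exact ih.mul h

theorem nr_mem {y : ↥(D.group (KK r))} (h : NR hp r 1 y) : y ∈ TT D (KK r) := by
  have := h.mem_of_one
  rwa [TL_eq hp (locFin r)] at this

theorem cX_nr {w : M.Group} {y : ↥(D.group (KK r))} (h : NR hp r w y) {t : ↥(D.group (KK r))} (ht : t ∈ TT D (KK r))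
    (x : Fin l → ℤ) : cX hp (y * t * y⁻¹) (rep M.toCoxeterSystem hp.isCartan w x) = cX hp t x := by
  have := finite_W hp M.toCoxeterSystem
  have hTL := TL_eq hp (locFin r)
  have ht' : y * t * y⁻¹ ∈ TT D (KK r) := by
    have h1 := (Subgroup.mem_normalizer_iff.1 h.mem_normalizer t).1
    rw [hTL] at h1
    exact h1 ht
  have C := T5Cent.coL hp M.toCoxeterSystem (locFin r) r
  refine ((isMC_cX hp ht').comp (rep M.toCoxeterSystem hp.isCartan w).toAddMonoidHom).ext (isMC_cX hp ht)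
    (fun i => ?_) x
  show cX hp (y * t * y⁻¹) (rep M.toCoxeterSystem hp.isCartan w (sr i)) = _
  rw [cX_root hp M.toCoxeterSystem ht' ((isRoot_sr M.toCoxeterSystem hp.isCartan i).act w), cX_sr]
  exact C.chi_rp _ h (isRoot_sr M.toCoxeterSystem hp.isCartan i) (by rw [hTL]; exact ht)

end Rep

/-! ### the pair -/

section Pair

variable {M : CoxeterMatrix (Fin 8)} {hp : IsType chevE8 8 M} {r : ℕ} [Fact r.Prime] {e : ℕ}
  {τ : MulAut ↥(chevE8.group (KK r))} {γ : (Fin 8 → ℤ) ≃+ (Fin 8 → ℤ)} {E : Subgroup ↥(chevE8.group (KK r))}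

theorem b8_isom (F : Fr M.toCoxeterSystem hp.isCartan (TT chevE8 (KK r)) (XX chevE8 8 (KK r)) τ γ) (x y : Fin 8 → ℤ) :
    b8 (γ x) (γ y) = b8 x y := by
  have := finite_W hp M.toCoxeterSystem
  have FB := X3.frm8 hp M.toCoxeterSystem
  have h1 : ∀ i j, b8 (γ (sr i)) (γ (sr j)) = b8 (sr i) (sr j) := fun i j => by
    rw [← X3.bf_eq, ← X3.bf_eq]
    exact X3.isom FB F.root (isRoot_sr _ _ i) (isRoot_sr _ _ j)
  have e : ((T5Lat.bf (cartanOf chevE8 8)).compl₁₂ (γ : (Fin 8 → ℤ) →+ (Fin 8 → ℤ)).toIntLinearMap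
      (γ : (Fin 8 → ℤ) →+ (Fin 8 → ℤ)).toIntLinearMap) = T5Lat.bf (cartanOf chevE8 8) := by
    refine LinearMap.pi_ext' fun i => LinearMap.ext_ring (LinearMap.pi_ext' fun j => LinearMap.ext_ring ?_)
    have h2 := h1 i j
    rw [← X3.bf_eq, ← X3.bf_eq] at h2
    exact h2
  have h3 := LinearMap.congr_fun (LinearMap.congr_fun e x) y
  rw [← X3.bf_eq, ← X3.bf_eq]
  exact h3

theorem rep_five {w : M.Group} (hw : w ^ 5 = 1) (x : Fin 8 → ℤ) :
    rep M.toCoxeterSystem hp.isCartan w (rep M.toCoxeterSystem hp.isCartan w (rep M.toCoxeterSystem hp.isCartan w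
      (rep M.toCoxeterSystem hp.isCartan w (rep M.toCoxeterSystem hp.isCartan w x)))) = x := by
  rw [← rep_mul_apply, ← rep_mul_apply, ← rep_mul_apply, ← rep_mul_apply]
  have : w * w * w * w * w = 1 := by rw [← hw]; simp only [pow_succ, pow_zero, one_mul]
  rw [this, map_one, Module.End.one_apply]

/-- elements of order `5` commuting with `γ`, `γ² = -1`, have no fixed points -/
theorem phi5_rep (hsq : ∀ x, γ (γ x) = -x) {w : M.Group} (hw : w ^ 5 = 1) (hne : w ≠ 1)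
    (hc : ∀ x, γ (rep M.toCoxeterSystem hp.isCartan w x) = rep M.toCoxeterSystem hp.isCartan w (γ x)) :
    1 + rep M.toCoxeterSystem hp.isCartan w + rep M.toCoxeterSystem hp.isCartan w ^ 2 +
      rep M.toCoxeterSystem hp.isCartan w ^ 3 + rep M.toCoxeterSystem hp.isCartan w ^ 4 = 0 := by
  have := finite_W hp M.toCoxeterSystem
  refine phi5_end (g := (γ : (Fin 8 → ℤ) →+ (Fin 8 → ℤ)).toIntLinearMap) ?_ ?_ ?_ ?_
  · exact LinearMap.ext fun x => hsq x
  · rw [← map_pow, hw, map_one]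
  · exact LinearMap.ext fun x => hc x
  · intro h
    refine hne (H696.GmnToral.rep_faithful hp M.toCoxeterSystem fun a _ => ?_)
    rw [h, map_one]

theorem rep_inj {w w' : M.Group} (h : rep M.toCoxeterSystem hp.isCartan w = rep M.toCoxeterSystem hp.isCartan w') : w = w' := by
  have := finite_W hp M.toCoxeterSystem
  exact H696.GmnToral.rep_faithful hp M.toCoxeterSystem fun a _ => by rw [h]

/-- **`E` is generated by an element of `T` and one other element.** -/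
theorem exists_pair (h5r : 5 ≠ r) (hF : IsFrob r e τ)
    (F : Fr M.toCoxeterSystem hp.isCartan (TT chevE8 (KK r)) (XX chevE8 8 (KK r)) τ γ) (hsq : ∀ x, γ (γ x) = -x)
    (hq : 5 ∣ (r ^ e) ^ 2 + 1) (hE : IsElementaryAbelian 5 E) (hfix : ∀ y ∈ E, τ y = y)
    (hn : ∀ y ∈ E, ∃ w, NR hp r w y) (hET : ¬ E ≤ TT chevE8 (KK r)) :
    ∃ t ∈ E, ∃ f ∈ E, t ∈ TT chevE8 (KK r) ∧ E ≤ Subgroup.closure {f, t} := by
  have hWf := finite_W hp M.toCoxeterSystem
  have hf5 : Fact (Nat.Prime 5) := ⟨by norm_num⟩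
  have hcomm : ∀ a ∈ E, ∀ b ∈ E, a * b = b * a := fun a ha b hb =>
    congrArg Subtype.val (hE.1.is_comm.comm (⟨a, ha⟩ : ↥E) ⟨b, hb⟩)
  obtain ⟨f, hfE, hfT⟩ : ∃ f ∈ E, f ∉ TT chevE8 (KK r) := by
    by_contra hcon
    push Not at hcon
    exact hET hcon
  obtain ⟨w, hw⟩ := hn f hfE
  have hw5 : ∀ {v : M.Group} {y : ↥(chevE8.group (KK r))}, y ∈ E → NR hp r v y → v ^ 5 = 1 := fun {v y} hy hv => by
    have h1 := nr_pow hv 5
    rw [hE.2 y hy] at h1
    exact nr_unique (hp := hp) h1 rp_one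
  have hw1 : w ≠ 1 := by
    rintro rfl
    exact hfT (nr_mem hw)
  -- the image in `W` is cyclic
  have hcyc : ∀ y ∈ E, ∀ v, NR hp r v y → ∃ j : ℕ, v = w ^ j := by
    intro y hy v hv
    by_contra hcon
    push Not at hcon
    have hv5 := hw5 hy hv
    have hwv : w * v = v * w := nr_unique (hw.mul hv) (by rw [hcomm f hfE y hy]; exact hv.mul hw)
    have hv1 : v ≠ 1 := fun h => hcon 0 (by rw [h, pow_zero])
    have hwj : ∀ j : ℕ, w * v ^ j ≠ 1 := by
      intro j hj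
      have h1 : w⁻¹ = v ^ j := (eq_inv_of_mul_eq_one_right hj).symm
      have h2 : ¬ 5 ∣ j := by
        rintro ⟨m, rfl⟩
        rw [pow_mul, hv5, one_pow, inv_eq_one] at h1
        exact hw1 h1
      obtain ⟨m, hm⟩ := Nat.exists_mul_mod_eq_one_of_coprime
        ((Nat.Prime.coprime_iff_not_dvd (by norm_num : Nat.Prime 5)).2 h2).symm (by norm_num)
      have h3 : v = (w⁻¹) ^ m := by
        rw [h1, ← pow_mul, ← Nat.mod_add_div (j * m) 5, hm.2, pow_add, pow_one, pow_mul, hv5, one_pow, mul_one]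
      have h4 : w⁻¹ = w ^ 4 := by
        rw [inv_eq_iff_mul_eq_one, ← pow_succ', hw5 hfE hw]
      rw [h4, ← pow_mul] at h3
      exact hcon _ h3
    have hP : ∀ u : M.Group, u ^ 5 = 1 → u ≠ 1 → (∀ x, γ (rep M.toCoxeterSystem hp.isCartan u x) =
        rep M.toCoxeterSystem hp.isCartan u (γ x)) → 1 + rep M.toCoxeterSystem hp.isCartan u +
        rep M.toCoxeterSystem hp.isCartan u ^ 2 + rep M.toCoxeterSystem hp.isCartan u ^ 3 +
        rep M.toCoxeterSystem hp.isCartan u ^ 4 = 0 := fun u h1 h2 h3 => phi5_rep (hp := hp) hsq h1 h2 h3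
    have hgw := nr_comm hw F (hfix f hfE)
    have hgv := nr_comm hv F (hfix y hy)
    have h5 := five_eq_zero (a := rep M.toCoxeterSystem hp.isCartan w) (b := rep M.toCoxeterSystem hp.isCartan v)
      (by rw [← map_pow, hv5, map_one]) (by rw [← map_mul, hwv, map_mul]) (hP v hv5 hv1 hgv) (fun j => by
        have hyj : f * y ^ j ∈ E := mul_mem hfE (pow_mem hy j)
        have hr : NR hp r (w * v ^ j) (f * y ^ j) := hw.mul (nr_pow hv j)
        have := hP (w * v ^ j) (hw5 hyj hr) (hwj j) (nr_comm hr F (hfix _ hyj))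
        rw [map_mul, map_pow] at this
        exact this)
    have h6 := LinearMap.congr_fun h5 (sr 0)
    have h7 := congrFun h6 0
    have h8 : (5 : Module.End ℤ (Fin 8 → ℤ)) = (5 : ℤ) • (1 : Module.End ℤ (Fin 8 → ℤ)) := by simp
    rw [h8] at h7
    have h9 : (5 : ℤ) * (sr 0 : Fin 8 → ℤ) 0 = 0 := h7
    rw [sr_self] at h9
    omega
  have hEf : ∀ y ∈ E, ∃ j : ℕ, y * (f ^ j)⁻¹ ∈ TT chevE8 (KK r) := by
    intro y hy
    obtain ⟨v, hv⟩ := hn y hy
    obtain ⟨j, hj⟩ := hcyc y hy v hv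
    refine ⟨j, nr_mem (hp := hp) ?_⟩
    have h1 : NR hp r (v * (w ^ j)⁻¹) (y * (f ^ j)⁻¹) := hv.mul (nr_pow hw j).inv
    rwa [hj, mul_inv_cancel] at h1
  -- the intersection with `T` is cyclic
  by_cases hA : ∀ t ∈ E, t ∈ TT chevE8 (KK r) → t = 1
  · refine ⟨1, one_mem _, f, hfE, one_mem _, fun y hy => ?_⟩
    obtain ⟨j, hj⟩ := hEf y hy
    have h1 := hA _ (mul_mem hy (inv_mem (pow_mem hfE j))) hj
    rw [mul_inv_eq_one] at h1
    rw [h1]
    exact pow_mem (Subgroup.subset_closure (by simp)) j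
  push Not at hA
  obtain ⟨t, htE, htT, ht1⟩ := hA
  refine ⟨t, htE, f, hfE, htT, fun y hy => ?_⟩
  obtain ⟨j, hj⟩ := hEf y hy
  suffices h : y * (f ^ j)⁻¹ ∈ Subgroup.closure {f, t} by
    have h2 := mul_mem h (pow_mem (Subgroup.subset_closure (show f ∈ ({f, t} : Set ↥(chevE8.group (KK r))) by simp)) j)
    rwa [inv_mul_cancel_right] at h2
  set s := y * (f ^ j)⁻¹ with hs
  have hsE : s ∈ E := mul_mem hy (inv_mem (pow_mem hfE j))
  clear_value s
  -- characters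
  have MC : ∀ {t}, t ∈ TT chevE8 (KK r) → IsMC (cX hp t) := fun ht => isMC_cX hp ht
  have c5 : ∀ {t}, t ∈ E → t ∈ TT chevE8 (KK r) → ∀ x, cX hp t x ^ 5 = 1 := fun {t} hE' ht x => by
    rw [← cX_pow hp ht, hE.2 t hE', cX_one]
  have cw : ∀ {t}, t ∈ E → t ∈ TT chevE8 (KK r) → ∀ x, cX hp t (rep M.toCoxeterSystem hp.isCartan w x) = cX hp t x := by
    intro t hE' ht x
    have h1 := cX_nr hw ht x
    rwa [hcomm f hfE t hE', mul_inv_cancel_right] at h1
  have cg : ∀ {t}, t ∈ E → t ∈ TT chevE8 (KK r) → ∀ x, cX hp t (γ x) = cX hp t x ^ r ^ e := by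
    intro t hE' ht x
    have h1 := cX_sigma hp M.toCoxeterSystem hF F ht x
    rwa [hfix t hE'] at h1
  have ne1 : ∀ {t}, t ∈ TT chevE8 (KK r) → t ≠ 1 → ∃ x, cX hp t x ≠ 1 := by
    intro t ht h1
    by_contra hcon
    push Not at hcon
    exact h1 (cX_inj hp ht (one_mem _) fun i => by rw [hcon, cX_one])
  let chi : ∀ t, t ∈ TT chevE8 (KK r) → (Fin 8 → ℤ) →+ Additive (KK r)ˣ := fun t ht =>
    { toFun := fun x => Additive.ofMul (Units.mk0 (cX hp t x) ((MC ht).ne_zero x))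
      map_zero' := by
        rw [← ofMul_one]
        exact congrArg _ (Units.ext (MC ht).zero)
      map_add' := fun x y => by
        rw [← ofMul_mul]
        exact congrArg _ (Units.ext ((MC ht).add x y)) }
  have chi_eq : ∀ t (ht : t ∈ TT chevE8 (KK r)) x, (((chi t ht x).toMul : (KK r)ˣ) : KK r) = cX hp t x := fun _ _ _ => rfl
  have chi_ext : ∀ {a b : Additive (KK r)ˣ}, ((a.toMul : (KK r)ˣ) : KK r) = ((b.toMul : (KK r)ˣ) : KK r) → a = b := by
    intro a b h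
    exact Additive.toMul.injective (Units.ext h)
  have hsm : ∀ {u} (hu : u ∈ TT chevE8 (KK r)), u ∈ E → ∀ x, (5 : ℕ) • chi u hu x = 0 := by
    intro u hu huE x
    apply chi_ext
    rw [toMul_nsmul, Units.val_pow_eq_pow_val, chi_eq u hu, c5 huE hu]
    rfl
  obtain ⟨x₁, hx₁⟩ := ne1 htT ht1
  have hprim : IsPrimitiveRoot (cX hp t x₁) 5 := by
    rw [← orderOf_eq_prime (c5 htE htT x₁) hx₁]
    exact IsPrimitiveRoot.orderOf _
  obtain ⟨i, -, hi⟩ := hprim.eq_pow_of_pow_eq_one (c5 hsE hj x₁)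
  have hvE : s * (t ^ i)⁻¹ ∈ E := mul_mem hsE (inv_mem (pow_mem htE i))
  have hvT : s * (t ^ i)⁻¹ ∈ TT chevE8 (KK r) := mul_mem hj (inv_mem (pow_mem htT i))
  have hv1 : cX hp (s * (t ^ i)⁻¹) x₁ = 1 := by
    have h1 := cX_mul hp hvT (pow_mem htT i) x₁
    rw [inv_mul_cancel_right, cX_pow hp htT, hi] at h1
    have h2 : cX hp s x₁ ≠ 0 := (MC hj).ne_zero _
    exact (mul_right_cancel₀ h2 (by rw [one_mul]; exact h1)).symm
  by_cases hs1 : s * (t ^ i)⁻¹ = 1
  · rw [mul_inv_eq_one] at hs1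
    rw [hs1]
    exact pow_mem (Subgroup.subset_closure (by simp)) i
  exfalso
  obtain ⟨x₂, hx₂⟩ := ne1 hvT hs1
  have hgw := nr_comm hw F (hfix f hfE)
  have hw5' := hw5 hfE hw
  have hP := phi5_rep (hp := hp) hsq hw5' hw1 hgw
  refine no_two (w := (rep M.toCoxeterSystem hp.isCartan w).toAddMonoidHom) (g := (γ : (Fin 8 → ℤ) →+ (Fin 8 → ℤ)))
    (c := ((r ^ e : ℕ) : ℤ)) (χ₁ := chi t htT) (χ₂ := chi _ hvT) (x₁ := x₁) (x₂ := x₂)
    (fun x => rep_five (hp := hp) hw5' x) (fun x => ?_) (fun x y => b8_isom (hp := hp) F x y)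
    (fun x y => X3.inv8 hp w x y) (fun x => hgw x) ?_ (fun x => hsm htT htE x) (fun x => hsm hvT hvE x)
    (fun x => chi_ext (cw htE htT x)) (fun x => chi_ext (cw hvE hvT x)) (fun x => ?_) (fun x => ?_) ?_ ?_ ?_
  · have h1 := LinearMap.congr_fun hP x
    exact h1
  · have : (((r ^ e : ℕ) : ℤ)) ^ 2 + 1 = (((r ^ e) ^ 2 + 1 : ℕ) : ℤ) := by push_cast; ring
    rw [this]
    exact_mod_cast hq
  · apply chi_ext
    rw [natCast_zsmul, toMul_nsmul, Units.val_pow_eq_pow_val]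
    exact cg htE htT x
  · apply chi_ext
    rw [natCast_zsmul, toMul_nsmul, Units.val_pow_eq_pow_val]
    exact cg hvE hvT x
  · intro h1
    exact hx₁ (congrArg (fun a : Additive (KK r)ˣ => ((a.toMul : (KK r)ˣ) : KK r)) h1)
  · exact chi_ext hv1
  · intro h1
    exact hx₂ (congrArg (fun a : Additive (KK r)ˣ => ((a.toMul : (KK r)ˣ) : KK r)) h1)

end Pair

/-! ### toral -/

universe v

/-- **`E₈`, `p = 5`, `5 ∣ q² + 1` : elementary abelian `5`-subgroups of `Y^σ` are toral.** -/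
theorem toral_sq {M : CoxeterMatrix (Fin 8)} {hp : IsType chevE8 8 M} {r : ℕ} [Fact r.Prime] (h5r : 5 ≠ r) {q : ℕ}
    {K₀ : Type v} [Group K₀] (m : MData hp r q K₀) (hq : 5 ∣ q ^ 2 + 1) {E : Subgroup ↥(chevE8.group (KK r))}
    {z : ↥(chevE8.group (KK r))} {γ : (Fin 8 → ℤ) ≃+ (Fin 8 → ℤ)} (F : NFrame m E z γ) (hsq : ∀ x, γ (γ x) = -x)
    (hE : IsElementaryAbelian 5 E) (hσ : ∀ y ∈ E, m.σ y = y) :
    ∃ z', ∀ y ∈ E, z' * y * z'⁻¹ ∈ TT chevE8 (KK r) := by
  have S := F.sit hE hσ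
  by_cases hT : E.map (MulAut.conj z⁻¹).toMonoidHom ≤ TT chevE8 (KK r)
  · exact ⟨z⁻¹, fun y hy => hT ⟨y, hy, rfl⟩⟩
  obtain ⟨t, htE, f, hfE, htT, hle⟩ := exists_pair (hp := hp) h5r S.frob S.fr hsq (by rw [m.hq]; exact hq) S.el S.fix
    S.nrm hT
  have hcomm : f * t = t * f := congrArg Subtype.val (S.el.1.is_comm.comm (⟨f, hfE⟩ : ↥(E.map (MulAut.conj z⁻¹).toMonoidHom)) ⟨t, htE⟩)
  obtain ⟨g, hg⟩ := H889.Mono.toral_two hp r h5r (locFin r) htT (S.el.2 t htE) (S.el.2 f hfE) hcomm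
  refine ⟨g * z⁻¹, fun y hy => ?_⟩
  have h1 := hg _ (hle ⟨y, hy, rfl⟩)
  have h2 : g * (MulAut.conj z⁻¹).toMonoidHom y * g⁻¹ = g * z⁻¹ * y * (g * z⁻¹)⁻¹ := by
    show g * (z⁻¹ * y * z⁻¹⁻¹) * g⁻¹ = _
    group
  rwa [h2] at h1

end Cfsg.Agent.H897.Mono
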